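import Groth.Agent.H22Alg.KLineVanish
import Groth.Agent.H11Ample.Tensor
import Groth.Agent.H11Ample.Ample

/-!
# Sections of powers of a globally generated module avoiding finitely many points
-/

set_option autoImplicit false
set_option linter.style.haveILetI false
set_option backward.isDefEq.respectTransparency.types false

universe u

open CategoryTheory CategoryTheory.Limits AlgebraicGeometry Opposite TopologicalSpace
open Groth.Agent.H11Ample

noncomputable section

namespace Groth.Agent.H10Coh.Growth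

variable {X : Scheme.{u}} {L : X.Modules}

/-- Sections of positive powers of `L` that vanish at `x`. -/
def vanish (L : X.Modules) (x : X) : Set (Σ n : ℕ, Γ(CohB1.tensorPow L n, ⊤)) :=
  {p | 0 < p.1 ∧ x ∉ gen (CohB1.tensorPow L p.1) p.2}

theorem exists_pow (hL : PicF.IsInvertible L) {a : ℕ} (t : Γ(CohB1.tensorPow L a, ⊤)) {b : ℕ} (hb : 0 < b) :
    ∃ t' : Γ(CohB1.tensorPow L (a * b), ⊤), gen _ t' = gen (CohB1.tensorPow L a) t := by
  obtain ⟨φ, -⟩ := exists_iso_mul hL a b
  exact ⟨φ.hom.app ⊤ (spow t b), (gen_iso _ _).trans (gen_spow (isInvertible_tensorPow hL a) t b hb)⟩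

theorem exists_mul (hL : PicF.IsInvertible L) {a b : ℕ} (s : Γ(CohB1.tensorPow L a, ⊤))
    (t : Γ(CohB1.tensorPow L b, ⊤)) :
    ∃ u : Γ(CohB1.tensorPow L (a + b), ⊤), gen _ u = gen _ s ⊓ gen _ t := by
  obtain ⟨φ, -⟩ := exists_iso_add hL a b
  exact ⟨φ.hom.app ⊤ (tm s t),
    (gen_iso _ _).trans (gen_tm (isInvertible_tensorPow hL a) (isInvertible_tensorPow hL b) s t)⟩

/-- A globally generated invertible module has a section of a positive power generating at any given
finite set of points. -/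
theorem exists_avoid_of_gg (hL : PicF.IsInvertible L) (hg : Curv2.IsGloballyGenerated L) :
    ∀ E : Finset X, ∃ (N : ℕ) (s : Γ(CohB1.tensorPow L N, ⊤)), 0 < N ∧ ∀ e ∈ E, e ∈ gen _ s := by
  classical
  have hone : ∀ y : X, ∃ s : Γ(CohB1.tensorPow L 1, ⊤), y ∈ gen _ s := fun y => by
    obtain ⟨g, hy⟩ := exists_mem_gen_of_isGloballyGenerated hL hg y
    exact ⟨spow g 1, by rwa [gen_spow hL g 1 one_pos]⟩
  intro E
  induction E using Finset.strongInduction with
  | H E ih =>
  rcases E.eq_empty_or_nonempty with rfl | hne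
  · exact ⟨1, 0, one_pos, fun e he => absurd he (Finset.notMem_empty e)⟩
  obtain ⟨y, hy, hmin⟩ := E.exists_minimalFor (fun z => vanish L z) hne
  obtain ⟨a, t, ha, ht⟩ := ih (E.erase y) (Finset.erase_ssubset hy)
  by_cases hty : y ∈ gen _ t
  · exact ⟨a, t, ha, fun e he => if h : e = y then h ▸ hty else ht e (Finset.mem_erase.2 ⟨h, he⟩)⟩
  have hsep : ∀ z ∈ E.erase y, ¬ vanish L z ≤ vanish L y := fun z hz hle =>
    (hmin (Finset.mem_of_mem_erase hz) hle (show ⟨a, t⟩ ∈ vanish L y from ⟨ha, hty⟩)).2 (ht z hz)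
  have hprod : ∀ F : Finset X, F ⊆ E.erase y → ∃ (b : ℕ) (u : Γ(CohB1.tensorPow L b, ⊤)), 0 < b ∧
      y ∈ gen _ u ∧ ∀ z ∈ F, z ∉ gen _ u := fun F => by
    induction F using Finset.induction with
    | empty =>
      intro _
      obtain ⟨s, hs⟩ := hone y
      exact ⟨1, s, one_pos, hs, fun z hz => absurd hz (Finset.notMem_empty z)⟩
    | insert z F hzF ihF =>
      intro hF
      rw [Finset.insert_subset_iff] at hF
      obtain ⟨b, u, hb, hyu, hu⟩ := ihF hF.2
      obtain ⟨⟨c, v⟩, hv, hv'⟩ := Set.not_subset.1 (hsep z hF.1)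
      obtain ⟨uv, huv⟩ := exists_mul hL u v
      have hyv : y ∈ gen _ v := by
        by_contra h
        exact hv' ⟨hv.1, h⟩
      refine ⟨b + c, uv, by omega, huv.ge ⟨hyu, hyv⟩, fun w hw h => ?_⟩
      rcases Finset.mem_insert.1 hw with rfl | hwF
      · exact hv.2 (huv.le h).2
      · exact hu w hwF (huv.le h).1
  obtain ⟨b, u, hb, hyu, hu⟩ := hprod _ subset_rfl
  obtain ⟨t', ht'⟩ := exists_pow hL t hb
  obtain ⟨u₀, hu₀⟩ := exists_pow hL u ha
  obtain ⟨u', hu'⟩ := exists_section_of_eq (mul_comm b a) u₀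
  rw [hu₀] at hu'
  let f : Bool → Γ(CohB1.tensorPow L (a * b), ⊤) := fun c => cond c t' u'
  refine ⟨a * b, ∑ c, f c, Nat.mul_pos ha hb, fun e he => ?_⟩
  have hP := isInvertible_tensorPow hL (a * b)
  by_cases h : e = y
  · subst h
    refine H22Alg.KLineVanish.mem_gen_sum hP f (w := false) (hu'.ge hyu) fun c hc => ?_
    cases c with
    | false => exact absurd rfl hc
    | true => exact fun h' => hty (ht'.le h')
  · have he' := Finset.mem_erase.2 ⟨h, he⟩
    refine H22Alg.KLineVanish.mem_gen_sum hP f (w := true) (ht'.ge (ht e he')) fun c hc => ?_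
    cases c with
    | true => exact absurd rfl hc
    | false => exact fun h' => hu e he' (hu'.le h')

end Groth.Agent.H10Coh.Growth
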