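import Groth.Agent.H10Coh.Growth.FibreRank
import Groth.Agent.H25Euler.Degree
import Groth.Agent.H22Alg.KLineVanish
import Groth.Agent.H05EGA4.GenFlat
import Groth.Agent.H06EGA11c.StagePoint
import Groth.Agent.H06Mod.StalkFaithful
import Groth.Agent.LeadProper.Supp
import Groth.Agent.H10Coh.ExtPowFree

/-!
# Growth of the cohomology of twists on the fibres near the generic point
-/

set_option autoImplicit false
set_option linter.style.haveILetI false
set_option linter.unusedSectionVars false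
set_option backward.isDefEq.respectTransparency.types false

universe u

open CategoryTheory CategoryTheory.Limits AlgebraicGeometry TopologicalSpace Opposite

noncomputable section

namespace Groth.Agent.H10Coh.Growth

open Groth.Agent.H25Theta (pb pT)

attribute [local instance] H12Pic.PicCurve.fibreOverField

variable {X T : Scheme.{u}} (f : X ⟶ T) [IsProper f]

/-- `(1 + n)^{e - 1}`, read as `0` for `e = 0`. -/
def bnd : ℕ → ℕ → ℕ
  | 0, _ => 0
  | e + 1, n => (n + 1) ^ e

theorem bnd_mono (e : ℕ) {m n : ℕ} (h : m ≤ n) : bnd e m ≤ bnd e n := by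
  cases e with
  | zero => exact le_rfl
  | succ e => exact Nat.pow_le_pow_left (by omega) e

theorem mul_bnd_le (e n : ℕ) : n * bnd e n ≤ bnd (e + 1) n := by
  cases e with
  | zero => simp [bnd]
  | succ e =>
    simp only [bnd, pow_succ]
    calc n * (n + 1) ^ e ≤ (n + 1) * (n + 1) ^ e := Nat.mul_le_mul_right _ (Nat.le_succ n)
      _ = (n + 1) ^ e * (n + 1) := mul_comm _ _

theorem one_le_bnd (e n : ℕ) : 1 ≤ bnd (e + 1) n := Nat.one_le_pow _ _ (Nat.succ_pos n)

/-- A family of invertible modules each of which is reached from the trivial one in `w` steps, a step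
being the tensor product or quotient with one of finitely many fixed modules. -/
structure Steps {J : Type} (w : J → ℕ) (G : J → X.Modules) {r : ℕ} (L : Fin r → X.Modules) : Prop where
  inv : ∀ a, PicF.IsInvertible (G a)
  invL : ∀ j, PicF.IsInvertible (L j)
  zero : ∀ a, w a = 0 → Nonempty (G a ≅ Coh.structureModule X)
  step : ∀ a, w a ≠ 0 → ∃ b j, w b + 1 = w a ∧
    (Nonempty (G a ≅ CohB1.tensorMod (G b) (L j)) ∨ Nonempty (G b ≅ CohB1.tensorMod (G a) (L j)))

section

variable [IsIntegral T] [IsLocallyNoetherian T]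

/-- The dimension of the support on the generic fibre. -/
def gdim (F : X.Modules) : WithBot ℕ∞ :=
  topologicalKrullDim (CohB1.support (CohIII.fiberMod f F (genericPoint T)))

theorem exists_open_flat (F : X.Modules) (hF : Coh.IsCoh F) :
    ∃ V : T.Opens, genericPoint T ∈ V ∧ ∀ x, f.base x ∈ V → FlatMod.IsFlatOverAt f F x :=
  haveI : IsLocallyNoetherian X := LocallyOfFiniteType.isLocallyNoetherian f
  H05EGA4.GenFlat.exists_open_isFlatOverAt f (H10Coh.isFP_of_isCoh F hF)

/-- Near the generic point the ranks of a coherent module on the fibres are bounded. -/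
theorem exists_bound_open (F : X.Modules) (hF : Coh.IsCoh F) (i : ℕ) :
    ∃ (V : T.Opens) (C : ℕ), genericPoint T ∈ V ∧ ∀ t ∈ V, CohIII.fiberRank f F i t ≤ C := by
  obtain ⟨V₀, hη, hfl⟩ := exists_open_flat f F hF
  haveI : IsLocallyNoetherian X := LocallyOfFiniteType.isLocallyNoetherian f
  haveI : IsLocallyNoetherian (f ⁻¹ᵁ V₀ : X.Opens).toScheme := inferInstance
  haveI : IsLocallyNoetherian V₀.toScheme := inferInstance
  let F' := (Scheme.Modules.pullback (f ⁻¹ᵁ V₀).ι).obj F
  have hF' : Coh.IsCoh F' := H17.ConsProp.isCoh_pullback _ hF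
  haveI : IsProper (f ∣_ V₀) := MorphismProperty.of_isPullback (isPullback_morphismRestrict f V₀).flip inferInstance
  haveI : LocallyOfFinitePresentation (f ∣_ V₀) := inferInstance
  haveI : F'.IsQuasicoherent := hF'.1
  have hfl' : FlatMod.IsFlatOver (f ∣_ V₀) F' := fun x => by
    rw [← H06EGA11c.isFlatOverAt_comp_openImmersion_iff (f ∣_ V₀) V₀.ι, morphismRestrict_ι,
      H06Mod.isFlatOverAt_pullback_iff]
    exact hfl _ x.2
  have hsc := LeadBC.GenBC.upperSemicontinuous_fiberRank (f ∣_ V₀) F' (H10Coh.isFP_of_isCoh _ hF') hfl' i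
  let v : V₀.toScheme := ⟨genericPoint T, hη⟩
  obtain ⟨W, hW, hWo, hvW⟩ := mem_nhds_iff.1
    (hsc v (CohIII.fiberRank (f ∣_ V₀) F' i v + 1) (Nat.lt_succ_self _))
  refine ⟨⟨Subtype.val '' W, V₀.isOpen.isOpenMap_subtype_val W hWo⟩, CohIII.fiberRank (f ∣_ V₀) F' i v,
    ⟨v, hvW, rfl⟩, ?_⟩
  rintro _ ⟨u, hu, rfl⟩
  have e := fiberRank_pullback f hF (isPullback_morphismRestrict f V₀).flip i u
  exact e.symm.le.trans (Nat.lt_succ_iff.1 (hW hu))

/-- A coherent module which vanishes on the generic fibre vanishes on the fibres near it. -/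
theorem exists_open_zero (F : X.Modules) (hF : Coh.IsCoh F) (h : gdim f F < ((0 : ℕ) : WithBot ℕ∞)) :
    ∃ V : T.Opens, genericPoint T ∈ V ∧ ∀ (M : X.Modules), ∀ t ∈ V, ∀ i,
      CohIII.fiberRank f (CohB1.tensorMod F M) i t = 0 := by
  haveI : IsLocallyNoetherian X := LocallyOfFiniteType.isLocallyNoetherian f
  have hcl : IsClosed (CohB1.support F) := H10Coh.isClosed_support F hF.2
  refine ⟨⟨(f.base '' CohB1.support F)ᶜ, (f.isClosedMap _ hcl).isOpen_compl⟩, ?_, fun M t ht i => ?_⟩
  · rintro ⟨x, hx, hxη⟩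
    have hxr : x ∈ Set.range (f.fiberι (genericPoint T)).base := by rw [Scheme.Hom.range_fiberι]; exact hxη
    obtain ⟨y, rfl⟩ := hxr
    have hy : y ∈ CohB1.support (CohIII.fiberMod f F (genericPoint T)) := by
      rw [LeadProper.support_pullback F hF.1 hF.2]; exact hx
    refine absurd h (not_lt.2 ?_)
    haveI : Nonempty (IrreducibleCloseds (CohB1.support (CohIII.fiberMod f F (genericPoint T)))) :=
      ⟨⟨closure {⟨y, hy⟩}, isIrreducible_singleton.closure, isClosed_closure⟩⟩
    exact Order.krullDim_nonneg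
  · have hz : IsZero (CohIII.fiberMod f (CohB1.tensorMod F M) t) :=
      H16Derived.KFlat.Stalk.isZero_of_stalk fun y => (H25Euler.notMem_support_iff _ y).1 fun hy => by
        have h1 := (LeadDev.support_subset_of_iso (pT (f.fiberι t) F M)).trans
          (H25Euler.support_tensor_subset _ _) hy
        rw [LeadProper.support_pullback F hF.1 hF.2] at h1
        exact ht ⟨_, h1, (Scheme.Hom.range_fiberι f t).le ⟨y, rfl⟩⟩
    haveI := H10Coh.ExtPowFree.subsingleton_HH_of_isZero hz i
    exact Module.finrank_zero_of_subsingleton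

theorem gdim_lt {F M : X.Modules} (hF : Coh.IsCoh F) (hM : Coh.IsCoh M) {e : ℕ}
    (hsub : CohB1.support M ⊆ CohB1.support F) (Z : Set (CohB1.support (CohIII.fiberMod f F (genericPoint T))))
    (hZ : ∀ y, ∃ η ∈ Z, η ⤳ y) (hout : ∀ η ∈ Z, (f.fiberι (genericPoint T)).base η.1 ∉ CohB1.support M)
    (hd : gdim f F < ((e + 1 : ℕ) : WithBot ℕ∞)) : gdim f M < (e : WithBot ℕ∞) := by
  haveI : IsLocallyNoetherian X := LocallyOfFiniteType.isLocallyNoetherian f
  let p := f.fiberι (genericPoint T)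
  have hFη : CohB1.support (CohIII.fiberMod f F (genericPoint T)) = p.base ⁻¹' CohB1.support F :=
    LeadProper.support_pullback F hF.1 hF.2 p
  have hMη : CohB1.support (CohIII.fiberMod f M (genericPoint T)) = p.base ⁻¹' CohB1.support M :=
    LeadProper.support_pullback M hM.1 hM.2 p
  have hYc : IsClosed (CohB1.support (CohIII.fiberMod f F (genericPoint T))) := by
    rw [hFη]; exact (H10Coh.isClosed_support F hF.2).preimage p.continuous
  haveI : QuasiSober (CohB1.support (CohIII.fiberMod f F (genericPoint T))) :=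
    hYc.isClosedEmbedding_subtypeVal.quasiSober
  let S : Set (CohB1.support (CohIII.fiberMod f F (genericPoint T))) :=
    Subtype.val ⁻¹' CohB1.support (CohIII.fiberMod f M (genericPoint T))
  have hS : IsClosed S := by
    show IsClosed (Subtype.val ⁻¹' _)
    rw [hMη]
    exact ((H10Coh.isClosed_support M hM.2).preimage p.continuous).preimage continuous_subtype_val
  have hlt := H25Euler.dim_lt_of_forall_ne S hS (fun y _ => by
    obtain ⟨η, hη, hηy⟩ := hZ y
    refine ⟨η, hηy, fun h => hout η hη ?_⟩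
    have h' : η.1 ∈ CohB1.support (CohIII.fiberMod f M (genericPoint T)) := h
    rw [hMη] at h'
    exact h') hd
  have hle : CohB1.support (CohIII.fiberMod f M (genericPoint T)) ⊆
      CohB1.support (CohIII.fiberMod f F (genericPoint T)) := by
    rw [hFη, hMη]; exact Set.preimage_mono hsub
  let e : CohB1.support (CohIII.fiberMod f M (genericPoint T)) ≃ₜ S :=
    { toFun := fun x => ⟨⟨x.1, hle x.2⟩, x.2⟩
      invFun := fun x => ⟨x.1.1, x.2⟩
      left_inv := fun _ => rfl
      right_inv := fun _ => rfl }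
  rw [gdim, e.isHomeomorph.topologicalKrullDim_eq]
  exact hlt

variable [IsAffine T] {A : X.Modules} (hA : CohB1.IsAmple A)
  {J : Type} {w : J → ℕ} {G : J → X.Modules} {r : ℕ} {L : Fin r → X.Modules} (hG : Steps w G L)

include hA hG

/-- The growth of the cohomology of twists of a coherent module near the generic point. -/
theorem exists_growth (e : ℕ) : ∀ F : X.Modules, Coh.IsCoh F → gdim f F < (e : WithBot ℕ∞) → ∀ i : ℕ,
    ∃ (V : T.Opens) (C : ℕ), genericPoint T ∈ V ∧
      ∀ t ∈ V, ∀ a, CohIII.fiberRank f (CohB1.tensorMod F (G a)) i t ≤ C * bnd e (w a) := by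
  induction e with
  | zero =>
    intro F hF hd i
    obtain ⟨V, hV, hz⟩ := exists_open_zero f F hF hd
    exact ⟨V, 0, hV, fun t ht a => by rw [hz (G a) t ht i, Nat.zero_mul]⟩
  | succ e ih =>
    intro F hF hd i
    haveI : IsLocallyNoetherian X := LocallyOfFiniteType.isLocallyNoetherian f
    haveI : CompactSpace X := hA.2.1
    haveI : QuasiSeparatedSpace X := quasiSeparatedSpace_of_quasiSeparated f
    haveI := isProper_fiber f (genericPoint T)
    haveI := H29RR.isNoetherian_of_proper (k := T.residueField (genericPoint T)) (X := f.fiber (genericPoint T))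
    let p := f.fiberι (genericPoint T)
    have hYc : IsClosed (CohB1.support (CohIII.fiberMod f F (genericPoint T))) :=
      H10Coh.isClosed_support _ (H17.ConsProp.isCoh_pullback p hF).2
    haveI : QuasiSober (CohB1.support (CohIII.fiberMod f F (genericPoint T))) :=
      hYc.isClosedEmbedding_subtypeVal.quasiSober
    obtain ⟨Z, hZf, hZ⟩ := H25Euler.exists_finite_generizing (CohB1.support (CohIII.fiberMod f F (genericPoint T)))
    have hPt : (p.base '' (Subtype.val '' Z)).Finite := (hZf.image _).image _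
    -- one multiplication map
    have one : ∀ (N : X.Modules), PicF.IsInvertible N → ∀ σ : Γ(N, ⊤),
        p.base '' (Subtype.val '' Z) ⊆ (H11Ample.gen N σ : Set X) →
        ∃ (V : T.Opens) (C : ℕ), genericPoint T ∈ V ∧ ∀ t ∈ V, ∀ a,
          let φ := fun (M : X.Modules) => CohIII.fiberRank f (CohB1.tensorMod M (G a)) i t
          φ F ≤ φ (CohB1.tensorMod F N) + C * bnd e (w a) ∧
            φ (CohB1.tensorMod F N) ≤ φ F + C * bnd e (w a) := by
      intro N hN σ hσ
      let φ := H25Euler.mulHom F (H11Tilde.homOfGlobal N σ)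
      have hFN : Coh.IsCoh (CohB1.tensorMod F N) := H11Ample.isCoh_tensor hF hN
      have hK := H10Coh.isCoh_kernel φ hF hFN.1
      have hQ := H10Coh.isCoh_cokernel φ hF.1 hFN
      have hI := H10Coh.isCoh_kernel (cokernel.π φ) hFN hQ.1
      have hout : ∀ η ∈ Z, p.base η.1 ∉ CohB1.support (kernel φ) ∧ p.base η.1 ∉ CohB1.support (cokernel φ) :=
        fun η hη => H25Euler.notMem_support_kernel_cokernel φ
          (H25Euler.isIso_stalk_mulHom F _ (hσ ⟨η.1, ⟨η, hη, rfl⟩, rfl⟩))
      have hS₂ : (ShortComplex.mk (kernel.ι (cokernel.π φ)) (cokernel.π φ) (kernel.condition _)).ShortExact :=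
        { exact := ShortComplex.exact_kernel _ }
      have hsK : CohB1.support (kernel φ) ⊆ CohB1.support F :=
        (H25Euler.support_X₁_X₃ (S := ShortComplex.mk (kernel.ι φ) (cokernel.π (kernel.ι φ)) (cokernel.condition _))
          { exact := ShortComplex.exact_cokernel _ }).1
      have hsQ : CohB1.support (cokernel φ) ⊆ CohB1.support F :=
        (H25Euler.support_X₁_X₃ hS₂).2.trans (H25Euler.support_tensor_subset _ _)
      have dK := gdim_lt f hF hK hsK Z hZ (fun η hη => (hout η hη).1) hd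
      have dQ := gdim_lt f hF hQ hsQ Z hZ (fun η hη => (hout η hη).2) hd
      obtain ⟨V₁, C₁, h₁, b₁⟩ := ih _ hK dK i
      obtain ⟨V₂, C₂, h₂, b₂⟩ := ih _ hK dK (i + 1)
      obtain ⟨V₃, C₃, h₃, b₃⟩ := ih _ hQ dQ i
      obtain ⟨V₄, C₄, h₄, b₄⟩ := ih _ hQ dQ (i - 1)
      obtain ⟨V₅, h₅, f₅⟩ := exists_open_flat f _ hI
      obtain ⟨V₆, h₆, f₆⟩ := exists_open_flat f _ hQ
      refine ⟨V₁ ⊓ V₂ ⊓ V₃ ⊓ V₄ ⊓ V₅ ⊓ V₆, C₁ + C₂ + C₃ + C₄, ⟨⟨⟨⟨⟨h₁, h₂⟩, h₃⟩, h₄⟩, h₅⟩, h₆⟩, ?_⟩
      rintro t ⟨⟨⟨⟨⟨t₁, t₂⟩, t₃⟩, t₄⟩, t₅⟩, t₆⟩ a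
      have h := four_term f φ hF hFN (hG.inv a) t (fun x hx => f₅ x (hx ▸ t₅)) (fun x hx => f₆ x (hx ▸ t₆)) i
      have u₁ := b₁ t t₁ a
      have u₂ := b₂ t t₂ a
      have u₃ := b₃ t t₃ a
      have u₄ := b₄ t t₄ a
      simp only [add_mul]
      dsimp only at h ⊢
      constructor <;> omega
    -- one step
    have stepj : ∀ j, ∃ (V : T.Opens) (C : ℕ), genericPoint T ∈ V ∧ ∀ t ∈ V, ∀ a b,
        Nonempty (G b ≅ CohB1.tensorMod (G a) (L j)) →
        let φ := fun c => CohIII.fiberRank f (CohB1.tensorMod F (G c)) i t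
        φ a ≤ φ b + C * (bnd e (w a) + bnd e (w b)) ∧ φ b ≤ φ a + C * (bnd e (w a) + bnd e (w b)) := by
      intro j
      obtain ⟨m, σ, τ, hσ, hτ⟩ := H22Alg.KLineVanish.exists_avoid hA (hG.invL j) hPt
      let P := CohB1.tensorPow A m
      have hP : PicF.IsInvertible P := H11Ample.isInvertible_tensorPow hA.1 m
      obtain ⟨V₁, C₁, h₁, b₁⟩ := one _ (H11Ample.isInvertible_tensor (hG.invL j) hP) σ hσ
      obtain ⟨V₂, C₂, h₂, b₂⟩ := one _ hP τ hτ
      refine ⟨V₁ ⊓ V₂, C₁ + C₂, ⟨h₁, h₂⟩, fun t ht a b he => ?_⟩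
      obtain ⟨e'⟩ := he
      have key := fiberRank_congr f
        (H10Coh.Tw.assoc F (CohB1.tensorMod (L j) P) (G a) ≪≫ PicGrp.tensorModIso (Iso.refl F)
          (PicGrp.tensorModIso (H10Coh.Tw.commIso (L j) P) (Iso.refl (G a)) ≪≫ H10Coh.Tw.assoc P (L j) (G a) ≪≫
            PicGrp.tensorModIso (Iso.refl P) (H10Coh.Tw.commIso (L j) (G a) ≪≫ e'.symm)) ≪≫
          (H10Coh.Tw.assoc F P (G b)).symm) i t
      obtain ⟨p₁, q₁⟩ := b₁ t ht.1 a
      obtain ⟨p₂, q₂⟩ := b₂ t ht.2 b
      simp only [key] at p₁ q₁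
      dsimp only at p₁ q₁ p₂ q₂ ⊢
      simp only [add_mul, mul_add]
      constructor <;> omega
    choose Vj Cj hηj hbj using stepj
    obtain ⟨V₀, C₀, h₀, b₀⟩ := exists_bound_open f F hF i
    let C := ∑ j, Cj j
    refine ⟨V₀ ⊓ Finset.univ.inf Vj, C₀ + 2 * C, ⟨h₀, ?_⟩, fun t ht => ?_⟩
    · rw [SetLike.mem_coe, ← SetLike.mem_coe, Opens.coe_finset_inf]
      simpa using hηj
    have htj : ∀ j, t ∈ Vj j := fun j => (Finset.inf_le (Finset.mem_univ j) : Finset.univ.inf Vj ≤ Vj j) ht.2
    suffices hmain : ∀ n a, w a = n →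
        CohIII.fiberRank f (CohB1.tensorMod F (G a)) i t ≤ C₀ + n * (2 * C * bnd e n) from fun a => by
      refine (hmain _ a rfl).trans ?_
      rw [add_mul (C₀) (2 * C)]
      refine add_le_add (Nat.le_mul_of_pos_right _ (one_le_bnd e _)) ?_
      rw [← mul_assoc, mul_comm (w a) (2 * C), mul_assoc]
      exact Nat.mul_le_mul_left _ (mul_bnd_le e _)
    intro n
    induction n with
    | zero =>
      intro a ha
      obtain ⟨e₀⟩ := hG.zero a ha
      rw [fiberRank_congr f (PicGrp.tensorModIso (Iso.refl F) e₀ ≪≫ H10Coh.Tw.rightUnitIso F) i t, Nat.zero_mul,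
        Nat.add_zero]
      exact b₀ t ht.1
    | succ n ihn =>
      intro a ha
      obtain ⟨b, j, hb, he⟩ := hG.step a (by omega)
      have hwb : w b = n := by omega
      have hC : Cj j ≤ C := Finset.single_le_sum (fun _ _ => Nat.zero_le _) (Finset.mem_univ j)
      have hm : bnd e (w b) ≤ bnd e (n + 1) := bnd_mono e (by omega)
      have hab : CohIII.fiberRank f (CohB1.tensorMod F (G a)) i t ≤
          CohIII.fiberRank f (CohB1.tensorMod F (G b)) i t + 2 * C * bnd e (n + 1) := by
        have hx : Cj j * (bnd e (w b) + bnd e (w a)) ≤ 2 * C * bnd e (n + 1) := by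
          rw [mul_comm 2 C, mul_assoc, ha]
          exact Nat.mul_le_mul hC (by omega)
        rcases he with he | he
        · exact (hbj j t (htj j) b a he).2.trans (Nat.add_le_add_left hx _)
        · refine (hbj j t (htj j) a b he).1.trans (Nat.add_le_add_left ?_ _)
          rwa [add_comm]
      refine hab.trans ?_
      have hih := ihn b hwb
      have hmn : n * (2 * C * bnd e n) ≤ n * (2 * C * bnd e (n + 1)) :=
        Nat.mul_le_mul_left _ (Nat.mul_le_mul_left _ (bnd_mono e (Nat.le_succ n)))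
      rw [Nat.add_mul n 1, Nat.one_mul]
      generalize 2 * C * bnd e (n + 1) = K at hmn ⊢
      generalize n * (2 * C * bnd e n) = P₁ at hmn hih
      generalize n * K = P₂ at hmn ⊢
      omega

end

end Groth.Agent.H10Coh.Growth
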