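import Groth.Agent.H10Coh.Growth.FlatAt
import Groth.Agent.H10Inj.HHSeq
import Groth.Agent.H10Coh.Proper
import Groth.Agent.H10Coh.Bounded
import Groth.Agent.H10Coh.FinType2
import Groth.Agent.H12Pic.PicCurve.Good
import Groth.Agent.H17.ConsModModels
import Groth.Agent.H28Int.Core
import Groth.Agent.H25Theta.Basic

/-!
# Ranks of the cohomology of coherent modules on fibres
-/

set_option autoImplicit false
set_option linter.style.haveILetI false
set_option linter.unusedSectionVars false
set_option backward.isDefEq.respectTransparency.types false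

universe u

open CategoryTheory CategoryTheory.Limits AlgebraicGeometry TopologicalSpace Opposite

noncomputable section

namespace Groth.Agent.H10Coh.Growth

open Groth.Agent.H25Theta (pb pT)

attribute [local instance] H12Pic.PicCurve.fibreOverField

variable {X T : Scheme.{u}} (f : X ⟶ T) [IsProper f]

theorem isProper_fiber (t : T) : IsProper (f.fiber t ↘ Spec (CommRingCat.of (T.residueField t))) :=
  MorphismProperty.of_isPullback (IsPullback.of_hasPullback f (T.fromSpecResidueField t)) inferInstance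

theorem finite_fiberH {F : X.Modules} (hF : Coh.IsCoh F) (t : T) (i : ℕ) :
    Module.Finite (T.residueField t) (CohIII.fiberH f F t i) :=
  haveI := isProper_fiber f t
  H10Coh.finite_HH_proper (T.residueField t) (f.fiber t) _ (H17.ConsProp.isCoh_pullback _ hF) i

theorem fiberRank_congr {F G : X.Modules} (e : F ≅ G) (i : ℕ) (t : T) :
    CohIII.fiberRank f F i t = CohIII.fiberRank f G i t :=
  (H29RR.hhIso (k := T.residueField t) ((Scheme.Modules.pullback (f.fiberι t)).mapIso e) i).finrank_eq

/-- Cohomology over a field valued point of the base is that of the fibre. -/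
theorem finrank_HH_point {F : X.Modules} (hF : Coh.IsCoh F) {K : Type u} [Field K]
    {X' : Scheme.{u}} [X'.Over (Spec (CommRingCat.of K))] (g : Spec (CommRingCat.of K) ⟶ T) {g' : X' ⟶ X}
    (h : IsPullback g' (X' ↘ Spec (CommRingCat.of K)) f g) (p : ℕ) :
    Module.finrank K (Coh.HH X' ((Scheme.Modules.pullback g').obj F) p) =
      CohIII.fiberRank f F p (g (IsLocalRing.closedPoint K)) := by
  set t := g (IsLocalRing.closedPoint K) with ht
  let d : T.residueField t ⟶ CommRingCat.of K := Scheme.descResidueField (Scheme.stalkClosedPointTo g)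
  letI : Algebra (T.residueField t) K := d.hom.toAlgebra
  have hd : Spec.map d ≫ T.fromSpecResidueField t = g :=
    Scheme.descResidueField_stalkClosedPointTo_fromSpecResidueField K T g
  have hfib : IsPullback (f.fiberι t) (f.fiber t ↘ Spec (CommRingCat.of (T.residueField t))) f
      (T.fromSpecResidueField t) := IsPullback.of_hasPullback f (T.fromSpecResidueField t)
  haveI := isProper_fiber f t
  let q : X' ⟶ f.fiber t := hfib.lift g' ((X' ↘ Spec (CommRingCat.of K)) ≫ Spec.map d) (by
    rw [Category.assoc, hd, h.w])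
  have hsq : IsPullback q (X' ↘ Spec (CommRingCat.of K)) (f.fiber t ↘ Spec (CommRingCat.of (T.residueField t)))
      (Spec.map (CommRingCat.ofHom (algebraMap (T.residueField t) K))) := by
    refine IsPullback.of_right ?_ (hfib.lift_snd _ _ _) hfib
    rw [hfib.lift_fst]
    show IsPullback g' _ f (Spec.map d ≫ T.fromSpecResidueField t)
    rw [hd]
    exact h
  refine Eq.trans ?_ ((H28Int.FieldExt.finrank_HH_bc K hsq (H17.ConsProp.isCoh_pullback _ hF) p).trans rfl)
  exact (H29RR.hhIso (k := K) ((Scheme.Modules.pullbackCongr (hfib.lift_fst _ _ _).symm).app F ≪≫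
    ((Scheme.Modules.pullbackComp q (f.fiberι t)).app F).symm) p).finrank_eq

/-- The fibre ranks are stable under base change. -/
theorem fiberRank_pullback {F : X.Modules} (hF : Coh.IsCoh F) {X' T' : Scheme.{u}} {f' : X' ⟶ T'}
    [IsProper f'] {q : T' ⟶ T} {q' : X' ⟶ X} (h : IsPullback q' f' f q) (p : ℕ) (t : T') :
    CohIII.fiberRank f' ((Scheme.Modules.pullback q').obj F) p t = CohIII.fiberRank f F p (q t) := by
  have hfib : IsPullback (f'.fiberι t) (f'.fiber t ↘ Spec (CommRingCat.of (T'.residueField t))) f'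
      (T'.fromSpecResidueField t) := IsPullback.of_hasPullback f' (T'.fromSpecResidueField t)
  have h1 := finrank_HH_point f' (H17.ConsProp.isCoh_pullback q' hF) _ hfib p
  have h2 := finrank_HH_point f hF _ (hfib.paste_horiz h) p
  rw [Scheme.fromSpecResidueField_apply] at h1
  rw [Scheme.Hom.comp_apply, Scheme.fromSpecResidueField_apply] at h2
  rw [← h1, ← h2]
  exact (H29RR.hhIso (k := T'.residueField t) ((Scheme.Modules.pullbackComp (f'.fiberι t) q').app F) p).finrank_eq

open H10Inj.HHSeq in
/-- The inequalities read off from the long exact sequence on a fibre, with twist by an invertible module. -/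
theorem bounds {S : ShortComplex X.Modules} (hS : S.ShortExact) (h₁ : Coh.IsCoh S.X₁) (h₂ : Coh.IsCoh S.X₂)
    (h₃ : Coh.IsCoh S.X₃) {M : X.Modules} (hM : PicF.IsInvertible M) (t : T)
    (hfl : ∀ x, f.base x = t → FlatMod.IsFlatOverAt f S.X₃ x) :
    let r := fun (G : X.Modules) i => CohIII.fiberRank f (CohB1.tensorMod G M) i t
    r S.X₁ 0 ≤ r S.X₂ 0 ∧ ∀ i, r S.X₂ i ≤ r S.X₁ i + r S.X₃ i ∧
      r S.X₁ (i + 1) ≤ r S.X₃ i + r S.X₂ (i + 1) ∧ r S.X₃ i ≤ r S.X₂ i + r S.X₁ (i + 1) := by
  intro r
  let p := f.fiberι t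
  have hMt : PicF.IsInvertible (pb p M) := H11Ample.isInvertible_pullback p hM
  haveI := isProper_fiber f t
  haveI := H29RR.isNoetherian_of_proper (k := T.residueField t) (X := f.fiber t)
  let S' := (S.map (Scheme.Modules.pullback p)).map ((DCoh.tensorBi (X := f.fiber t)).flip.obj (pb p M))
  have hS' : S'.ShortExact := H28Int.tensor_shortExact (shortExact_fiber f t hS hfl) hMt
  have hr : ∀ (G : X.Modules) (i : ℕ), r G i = Module.finrank (T.residueField t)
      (Coh.HH (f.fiber t) (CohB1.tensorMod (pb p G) (pb p M)) i) := fun G i =>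
    (H29RR.hhIso (k := T.residueField t) (pT p G M) i).finrank_eq
  obtain ⟨a, b, δ, h0, hB, hC, hA⟩ := exists_les (T.residueField t) S' hS'
  haveI i₁ : ∀ n, Module.Finite (T.residueField t)
      (Coh.HH (f.fiber t) (CohB1.tensorMod (pb p S.X₁) (pb p M)) n) := fun n =>
    H10Coh.finite_HH_proper _ _ _ (H11Ample.isCoh_tensor (H17.ConsProp.isCoh_pullback p h₁) hMt) n
  haveI i₂ : ∀ n, Module.Finite (T.residueField t)
      (Coh.HH (f.fiber t) (CohB1.tensorMod (pb p S.X₂) (pb p M)) n) := fun n =>
    H10Coh.finite_HH_proper _ _ _ (H11Ample.isCoh_tensor (H17.ConsProp.isCoh_pullback p h₂) hMt) n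
  haveI i₃ : ∀ n, Module.Finite (T.residueField t)
      (Coh.HH (f.fiber t) (CohB1.tensorMod (pb p S.X₃) (pb p M)) n) := fun n =>
    H10Coh.finite_HH_proper _ _ _ (H11Ample.isCoh_tensor (H17.ConsProp.isCoh_pullback p h₃) hMt) n
  haveI : ∀ n, Module.Finite (T.residueField t) (Coh.HH (f.fiber t) S'.X₁ n) := i₁
  haveI : ∀ n, Module.Finite (T.residueField t) (Coh.HH (f.fiber t) S'.X₂ n) := i₂
  haveI : ∀ n, Module.Finite (T.residueField t) (Coh.HH (f.fiber t) S'.X₃ n) := i₃
  have v0 := len_le_of_injective h0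
  have v1 := fun i => len_mid_le (hB i)
  have v2 := fun i => len_mid_le (hA i)
  have v3 := fun i => len_mid_le (hC i)
  simp only [len_eq_finrank] at v0 v1 v2 v3
  simp only [hr]
  exact ⟨v0, fun i => ⟨v1 i, v2 i, v3 i⟩⟩

/-- Comparison of the ranks along a map whose kernel and cokernel are under control. -/
theorem four_term {A B : X.Modules} (φ : A ⟶ B) (hA : Coh.IsCoh A) (hB : Coh.IsCoh B) [IsLocallyNoetherian X]
    {M : X.Modules} (hM : PicF.IsInvertible M) (t : T)
    (hI : ∀ x, f.base x = t → FlatMod.IsFlatOverAt f (kernel (cokernel.π φ)) x)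
    (hQ : ∀ x, f.base x = t → FlatMod.IsFlatOverAt f (cokernel φ) x) (i : ℕ) :
    let r := fun (G : X.Modules) i => CohIII.fiberRank f (CohB1.tensorMod G M) i t
    let D := r (kernel φ) i + r (kernel φ) (i + 1) + r (cokernel φ) i + r (cokernel φ) (i - 1)
    r A i ≤ r B i + D ∧ r B i ≤ r A i + D := by
  intro r D
  have hK := H10Coh.isCoh_kernel φ hA hB.1
  have hC := H10Coh.isCoh_cokernel φ hA.1 hB
  have hIc := H10Coh.isCoh_kernel (cokernel.π φ) hB hC.1
  have hS₁ : (ShortComplex.mk (kernel.ι φ) (Abelian.factorThruImage φ)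
      (by rw [← cancel_mono (Abelian.image.ι φ), Category.assoc, Abelian.image.fac, kernel.condition,
        zero_comp])).ShortExact :=
    { exact := ShortComplex.exact_of_f_is_kernel _ (KernelFork.IsLimit.ofι' _ _ fun g hg =>
        ⟨kernel.lift φ g (by
          rw [← Abelian.image.fac φ, ← Category.assoc, hg, zero_comp]), kernel.lift_ι _ _ _⟩)
      epi_g := inferInstanceAs (Epi (Abelian.factorThruImage φ)) }
  have hS₂ : (ShortComplex.mk (kernel.ι (cokernel.π φ)) (cokernel.π φ) (kernel.condition _)).ShortExact :=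
    { exact := ShortComplex.exact_kernel _ }
  obtain ⟨-, b1⟩ := bounds f hS₁ hK hA hIc hM t hI
  obtain ⟨b20, b2⟩ := bounds f hS₂ hIc hB hC hM t hQ
  have e1 : r A i ≤ r (kernel φ) i + r (kernel (cokernel.π φ)) i := (b1 i).1
  have e2 : r (kernel (cokernel.π φ)) i ≤ r A i + r (kernel φ) (i + 1) := (b1 i).2.2
  have e3 : r B i ≤ r (kernel (cokernel.π φ)) i + r (cokernel φ) i := (b2 i).1
  have e4 : r (kernel (cokernel.π φ)) i ≤ r B i + r (cokernel φ) (i - 1) := by
    cases i with
    | zero => exact b20.trans (Nat.le_add_right _ _)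
    | succ n => exact ((b2 n).2.1).trans (le_of_eq (add_comm _ _))
  constructor <;> omega

/-- The cohomology of the fibres vanishes uniformly from some degree on. -/
theorem exists_fiberRank_eq_zero [IsAffine T] :
    ∃ N : ℕ, ∀ F : X.Modules, F.IsQuasicoherent → ∀ i, N ≤ i → ∀ t : T, CohIII.fiberRank f F i t = 0 := by
  haveI : CompactSpace X := QuasiCompact.compactSpace_of_compactSpace f
  obtain ⟨s, hs, hcov⟩ := (isCompact_and_isOpen_iff_finite_and_eq_biUnion_affineOpens (U := (Set.univ : Set X))).1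
    ⟨CompactSpace.isCompact_univ, isOpen_univ⟩
  let e := hs.toFinset.equivFin
  refine ⟨hs.toFinset.card, fun F hF i hi t => ?_⟩
  let p := f.fiberι t
  haveI : IsAffineHom p := MorphismProperty.pullback_fst _ _ inferInstance
  haveI := isProper_fiber f t
  haveI : (f.fiber t).IsSeparated := AlgebraicGeometry.Scheme.IsSeparated.mk (by
    rw [← terminalIsTerminal.hom_ext ((f.fiber t ↘ Spec (CommRingCat.of (T.residueField t))) ≫
      terminal.from _) (terminal.from (f.fiber t))]
    infer_instance)
  let U : Fin hs.toFinset.card → (f.fiber t).Opens := fun j => p ⁻¹ᵁ (e.symm j).1.1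
  have htop : ⨆ j, U j = ⊤ := eq_top_iff.2 fun y _ => by
    obtain ⟨V, hV, hy⟩ := Set.mem_iUnion₂.1 (hcov.le (Set.mem_univ (p y)))
    exact Opens.mem_iSup.2 ⟨e ⟨V, hs.mem_toFinset.2 hV⟩, by
      show p y ∈ (e.symm (e ⟨V, hs.mem_toFinset.2 hV⟩)).1.1
      rw [e.symm_apply_apply]; exact hy⟩
  haveI : (pb p F).IsQuasicoherent := H29Fitt.isQCoh_pullback _ F hF
  have hz := H10Coh.subsingleton_of_affine_cover (fun V W hV hW => hV.inf hW) (pb p F) _ U
    (fun j => (e.symm j).1.2.preimage p) i hi
  rw [htop] at hz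
  haveI : Subsingleton (Coh.HH (f.fiber t) (pb p F) i) :=
    @Equiv.subsingleton _ _ (H10Coh.HHEquiv (pb p F) i).toEquiv hz
  exact Module.finrank_zero_of_subsingleton

end Groth.Agent.H10Coh.Growth
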