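import Groth.Agent.H10Coh.Growth.Engine
import Groth.Agent.H11Ample.Converse
import Groth.Agent.H11Ample.AmpleOn
import Groth.Agent.H25AbCube.DualInverse

/-!
# Growth of the cohomology of twists over a field
-/

set_option autoImplicit false
set_option linter.style.haveILetI false
set_option linter.unusedSectionVars false
set_option backward.isDefEq.respectTransparency.types false

universe u

open CategoryTheory CategoryTheory.Limits AlgebraicGeometry TopologicalSpace Opposite

noncomputable section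

namespace Groth.Agent.H10Coh.Growth

attribute [local instance] H12Pic.PicCurve.fibreOverField

variable {k : Type u} [Field k] {X : Scheme.{u}} [X.Over (Spec (CommRingCat.of k))]
  [IsProper (X ↘ Spec (CommRingCat.of k))]

theorem fiberRank_field {M : X.Modules} (hM : Coh.IsCoh M) (i : ℕ) (t : Spec (CommRingCat.of k)) :
    CohIII.fiberRank (X ↘ Spec (CommRingCat.of k)) M i t = Module.finrank k (Coh.HH X M i) := by
  have h := finrank_HH_point (X ↘ Spec (CommRingCat.of k)) hM (K := k) (𝟙 _) (X' := X) (g' := 𝟙 X)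
    (IsPullback.of_horiz_isIso ⟨by simp⟩) i
  rw [Subsingleton.elim t (IsLocalRing.closedPoint k)]
  exact h.symm.trans (H29RR.hhIso (k := k) ((Scheme.Modules.pullbackId X).app M) i).finrank_eq

/-- The growth of the cohomology of a family of twists. -/
theorem growth_field {A : X.Modules} (hA : CohB1.IsAmple A) {J : Type} {w : J → ℕ} {G : J → X.Modules}
    {r : ℕ} {L : Fin r → X.Modules} (hG : Steps w G L) {d : ℕ} (hd : topologicalKrullDim X ≤ (d : WithBot ℕ∞))
    {F : X.Modules} (hF : Coh.IsCoh F) :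
    ∃ C : ℕ, ∀ i a, Module.finrank k (Coh.HH X (CohB1.tensorMod F (G a)) i) ≤ C * (w a + 1) ^ d := by
  let f := X ↘ Spec (CommRingCat.of k)
  have hlt : gdim f F < ((d + 1 : ℕ) : WithBot ℕ∞) := by
    refine lt_of_le_of_lt (le_trans ?_ hd) (by exact_mod_cast Nat.lt_succ_self d)
    exact ((f.fiberι _).isEmbedding.comp Topology.IsEmbedding.subtypeVal).isInducing.topologicalKrullDim_le
  obtain ⟨N, hN⟩ := exists_fiberRank_eq_zero f
  choose V C hV hC using fun i : Fin N => exists_growth f hA hG (d + 1) F hF hlt i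
  refine ⟨∑ i, C i, fun i a => ?_⟩
  have hFG := H11Ample.isCoh_tensor hF (hG.inv a)
  rw [← fiberRank_field hFG i (genericPoint (Spec (CommRingCat.of k)))]
  by_cases hi : i < N
  · exact (hC ⟨i, hi⟩ _ (hV _) a).trans (Nat.mul_le_mul_right _
      (Finset.single_le_sum (fun _ _ => Nat.zero_le _) (Finset.mem_univ (⟨i, hi⟩ : Fin N))))
  · rw [hN _ hFG.1 i (not_lt.1 hi) _]
    exact Nat.zero_le _

/-- An invertible factor can be cancelled. -/
theorem isInvertible_of_tensor {X : Scheme.{u}} {M L : X.Modules} (hL : PicF.IsInvertible L)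
    (h : PicF.IsInvertible (CohB1.tensorMod M L)) : PicF.IsInvertible M := by
  obtain ⟨c⟩ := H25AbCube.isInverseOf_dual hL
  exact H11Tilde.isInvertible_of_iso
    (H10Coh.Tw.assoc M L (RefHull.dual L) ≪≫
      PicGrp.tensorModIso (Iso.refl M) (H10Coh.Tw.commIso L (RefHull.dual L) ≪≫ c) ≪≫ H10Coh.Tw.rightUnitIso M)
    (H11Ample.isInvertible_tensor h (H8Props.DivisorSection.isInvertible_dual hL))

/-- A family indexed by tuples of integers, multiplicative along the basis vectors. -/
theorem steps_int {X : Scheme.{u}} {r : ℕ} {L : Fin r → X.Modules} (hL : ∀ j, PicF.IsInvertible (L j))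
    (G : (Fin r → ℤ) → X.Modules) (h0 : Nonempty (G 0 ≅ Coh.structureModule X))
    (hG : ∀ a j, Nonempty (G (a + Pi.single j 1) ≅ CohB1.tensorMod (G a) (L j))) :
    Steps (fun a => ∑ j, (a j).natAbs) G L := by
  have hstep : ∀ a : Fin r → ℤ, (∑ j, (a j).natAbs) ≠ 0 → ∃ b j, (∑ l, (b l).natAbs) + 1 = ∑ l, (a l).natAbs ∧
      (Nonempty (G a ≅ CohB1.tensorMod (G b) (L j)) ∨ Nonempty (G b ≅ CohB1.tensorMod (G a) (L j))) := by
    intro a ha
    obtain ⟨j, -, hj⟩ := Finset.exists_ne_zero_of_sum_ne_zero ha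
    have key : ∀ b : Fin r → ℤ, (∀ l, l ≠ j → b l = a l) → (b j).natAbs + 1 = (a j).natAbs →
        (∑ l, (b l).natAbs) + 1 = ∑ l, (a l).natAbs := fun b hb hbj => by
      rw [← Finset.add_sum_erase _ _ (Finset.mem_univ j), ← Finset.add_sum_erase _ (fun l => (a l).natAbs)
        (Finset.mem_univ j), ← hbj, Finset.sum_congr rfl fun l hl => congrArg Int.natAbs (hb l (Finset.ne_of_mem_erase hl))]
      omega
    rcases lt_trichotomy (a j) 0 with h | h | h
    · refine ⟨a + Pi.single j 1, j, key _ (fun l hl => by simp [hl]) ?_, Or.inr (hG a j)⟩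
      simp only [Pi.add_apply, Pi.single_eq_same]
      omega
    · simp [h] at hj
    · refine ⟨a - Pi.single j 1, j, key _ (fun l hl => by simp [hl]) ?_, Or.inl ?_⟩
      · simp only [Pi.sub_apply, Pi.single_eq_same]
        omega
      · obtain ⟨e⟩ := hG (a - Pi.single j 1) j
        exact ⟨eqToIso (congrArg G (sub_add_cancel a _).symm) ≪≫ e⟩
  have hzero : ∀ a : Fin r → ℤ, (∑ j, (a j).natAbs) = 0 → Nonempty (G a ≅ Coh.structureModule X) := fun a ha => by
    have : a = 0 := funext fun j => Int.natAbs_eq_zero.1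
      (Finset.sum_eq_zero_iff.1 ha j (Finset.mem_univ j))
    subst this
    exact h0
  refine ⟨fun a => ?_, hL, hzero, hstep⟩
  induction hn : (∑ j, (a j).natAbs) generalizing a with
  | zero => exact H11Tilde.isInvertible_of_iso (hzero a hn).some.symm (H22Alg.PnDeg0.isInvertible_structure X)
  | succ n ih =>
    obtain ⟨b, j, hb, he⟩ := hstep a (by omega)
    have hbi := ih b (by omega)
    rcases he with ⟨⟨e⟩⟩ | ⟨⟨e⟩⟩
    · exact H11Tilde.isInvertible_of_iso e.symm (H11Ample.isInvertible_tensor hbi (hL j))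
    · exact isInvertible_of_tensor (hL j) (H11Tilde.isInvertible_of_iso e hbi)

end Groth.Agent.H10Coh.Growth
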