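import Groth.Agent.H16Derived.BaseChange.FlatSES

/-!
# Base change of short exact sequences, with flatness only where it is needed
-/

set_option autoImplicit false
set_option linter.style.haveILetI false
set_option backward.isDefEq.respectTransparency false

universe u

open CategoryTheory CategoryTheory.Limits AlgebraicGeometry TensorProduct
open Groth.Agent.H16Derived.KFlat Groth.Agent.H16Derived.KFlat.Stalk

namespace Groth.Agent.H10Coh.Growth

open Groth.Agent.H16Derived.BaseChange

attribute [local instance] H06Mod.stalkAlgebra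

variable {X Y Y' : Scheme.{u}}

/-- Base change of a short exact sequence stays exact if the quotient is flat over the base at all
the points in the image. -/
theorem shortExact_pullback_fst_at (f : X ⟶ Y) (g : Y' ⟶ Y) {S : ShortComplex X.Modules} (hS : S.ShortExact)
    (h₃ : ∀ x', FlatMod.IsFlatOverAt f S.X₃ ((pullback.fst f g).base x')) : (S.map (Scheme.Modules.pullback (pullback.fst f g))).ShortExact := by
  let g' := pullback.fst f g
  let f' := pullback.snd f g
  haveI : PreservesFiniteColimits (Scheme.Modules.pullback g') :=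
    (Scheme.Modules.pullbackPushforwardAdjunction g').leftAdjoint_preservesColimits.preservesFiniteColimits
  haveI := hS.epi_g
  haveI hmono : Mono ((Scheme.Modules.pullback g').map S.f) := by
    refine H29Omega.mono_of_injective_stalkLin _ fun x' => ?_
    let x := g'.base x'
    let y' := f'.base x'
    have hy : g.base y' = f.base x := by
      show g.base (f'.base x') = f.base (g'.base x')
      rw [← Scheme.Hom.comp_apply, ← Scheme.Hom.comp_apply, pullback.condition]
    let β : Y.presheaf.stalk (f.base x) ⟶ Y'.presheaf.stalk y' :=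
      Y.presheaf.stalkSpecializes (specializes_of_eq hy) ≫ g.stalkMap y'
    letI : Algebra (Y.presheaf.stalk (f.base x)) (Y'.presheaf.stalk y') := β.hom.toAlgebra
    letI : Algebra (Y.presheaf.stalk (f.base x)) (X.presheaf.stalk x) := H06Mod.stalkAlgebra f x
    letI : Algebra (X.presheaf.stalk x) ((pullback f g).presheaf.stalk x') := H06Mod.stalkAlgebra g' x'
    letI : Algebra (Y'.presheaf.stalk y') ((pullback f g).presheaf.stalk x') := H06Mod.stalkAlgebra f' x'
    letI : Algebra (Y.presheaf.stalk (f.base x)) ((pullback f g).presheaf.stalk x') :=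
      (f.stalkMap x ≫ g'.stalkMap x').hom.toAlgebra
    haveI : IsScalarTower (Y.presheaf.stalk (f.base x)) (X.presheaf.stalk x)
        ((pullback f g).presheaf.stalk x') := .of_algebraMap_eq fun _ => rfl
    have hb' : Spec.map β ≫ Y.fromSpecStalk (f.base x) = Y'.fromSpecStalk y' ≫ g := by
      rw [Spec.map_comp, Category.assoc, Scheme.SpecMap_stalkSpecializes_fromSpecStalk,
        Scheme.SpecMap_stalkMap_fromSpecStalk]
    have ha : Spec.map (f.stalkMap x) ≫ Y.fromSpecStalk (f.base x) = X.fromSpecStalk x ≫ f :=
      Scheme.SpecMap_stalkMap_fromSpecStalk f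
    clear_value β
    have hcomm : β ≫ f'.stalkMap x' = f.stalkMap x ≫ g'.stalkMap x' := by
      apply Spec.map_injective
      rw [← cancel_mono (Y.fromSpecStalk (f.base x)), Spec.map_comp, Spec.map_comp, Category.assoc,
        Category.assoc, hb', ha, ← Category.assoc, ← Category.assoc,
        Scheme.SpecMap_stalkMap_fromSpecStalk, Scheme.SpecMap_stalkMap_fromSpecStalk, Category.assoc,
        Category.assoc, pullback.condition]
    haveI : IsScalarTower (Y.presheaf.stalk (f.base x)) (Y'.presheaf.stalk y')
        ((pullback f g).presheaf.stalk x') :=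
      .of_algebraMap_eq fun r => congr($(congrArg CommRingCat.Hom.hom hcomm) r).symm
    have hC := H06Mod.flat_tensorLift (Y.presheaf.stalk (f.base x)) (X.presheaf.stalk x)
      (Y'.presheaf.stalk y') ((pullback f g).presheaf.stalk x') f g (X.fromSpecStalk x)
      (Y.fromSpecStalk (f.base x)) (Y'.fromSpecStalk y') ha hb' ((pullback f g).fromSpecStalk x')
      (Scheme.SpecMap_stalkMap_fromSpecStalk _) (Scheme.SpecMap_stalkMap_fromSpecStalk _)
    letI := fun M : X.Modules => FlatMod.moduleStalkOver f M x
    haveI : ∀ M : X.Modules, IsScalarTower (Y.presheaf.stalk (f.base x)) (X.presheaf.stalk x) (M.presheaf.stalk x) :=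
      fun M => .of_algebraMap_smul fun _ _ => rfl
    haveI : Module.Flat (Y.presheaf.stalk (f.base x)) (S.X₃.presheaf.stalk x) := h₃ x'
    have hinj : Function.Injective ((H06Mod.stalkLin S.f x).baseChange ((pullback f g).presheaf.stalk x')) :=
      lTensor_injective_of_flat_coker _ _ _ _ hC (H06Mod.stalkLin S.f x) (H06Mod.stalkLin S.g x)
        (H06Mod.stalk_injective S hS x) (H06Mod.stalk_exact S hS x) (H06Mod.stalk_surjective S hS x)
    have hcomm' : ∀ z, H06Mod.stalkLin ((Scheme.Modules.pullback g').map S.f) x' (H06Mod.pullStalkEquiv g' S.X₁ x' z) =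
        H06Mod.pullStalkEquiv g' S.X₂ x' ((H06Mod.stalkLin S.f x).baseChange ((pullback f g).presheaf.stalk x') z) := by
      intro z
      induction z using TensorProduct.induction_on with
      | zero => simp
      | tmul a m =>
        show H06Mod.stalkLin _ x' (H06Mod.pullStalkLin g' S.X₁ x' (a ⊗ₜ m)) =
          H06Mod.pullStalkLin g' S.X₂ x' (a ⊗ₜ H06Mod.stalkLin S.f x m)
        rw [H06Mod.pullStalkLin_tmul, H06Mod.pullStalkLin_tmul, map_smul]
        exact congrArg (a • ·) (H06Mod.pullStalk_naturality g' S.X₁ x' S.f m)
      | add z w hz hw => simp only [map_add, hz, hw]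
    intro a b hab
    obtain ⟨a, rfl⟩ := (H06Mod.pullStalkEquiv g' S.X₁ x').surjective a
    obtain ⟨b, rfl⟩ := (H06Mod.pullStalkEquiv g' S.X₁ x').surjective b
    rw [hcomm', hcomm'] at hab
    exact congrArg _ (hinj ((H06Mod.pullStalkEquiv g' S.X₂ x').injective hab))
  exact { exact := ShortComplex.exact_of_g_is_cokernel _ (CokernelCofork.mapIsColimit _ hS.gIsCokernel (Scheme.Modules.pullback g'))
          mono_f := hmono
          epi_g := inferInstanceAs (Epi ((Scheme.Modules.pullback g').map S.g)) }

/-- The restriction to a fibre of a short exact sequence with quotient flat over the base along that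
fibre is exact. -/
theorem shortExact_fiber (f : X ⟶ Y) (t : Y) {S : ShortComplex X.Modules} (hS : S.ShortExact)
    (h₃ : ∀ x, f.base x = t → FlatMod.IsFlatOverAt f S.X₃ x) :
    (S.map (Scheme.Modules.pullback (f.fiberι t))).ShortExact :=
  shortExact_pullback_fst_at f (Y.fromSpecResidueField t) hS fun x' => h₃ _ (by
    have h : ((f.fiberι t).base x') ∈ Set.range (f.fiberι t).base := ⟨x', rfl⟩
    rw [Scheme.Hom.range_fiberι] at h
    exact h)

end Groth.Agent.H10Coh.Growth
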