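import Groth.Agent.H10Coh.Growth.Avoid
import Groth.Agent.H10Coh.Growth.Engine
import Groth.Agent.S1526

/-!
# Higher cohomology of powers of a globally generated module
-/

set_option autoImplicit false
set_option linter.style.haveILetI false
set_option linter.unusedSectionVars false
set_option backward.isDefEq.respectTransparency.types false

universe u

open CategoryTheory CategoryTheory.Limits AlgebraicGeometry TopologicalSpace Opposite

noncomputable section

namespace Groth.Agent.H10Coh.Growth

variable {k : Type u} [Field k] {X : Scheme.{u}} [X.Over (Spec (CommRingCat.of k))]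
  [IsProper (X ↘ Spec (CommRingCat.of k))]

variable (k) in
/-- The dimension of `H^i` over the ground field. -/
abbrev h (M : X.Modules) (i : ℕ) : ℕ := Module.finrank k (Coh.HH X M i)

open H10Inj.HHSeq in
theorem h_bounds {S : ShortComplex X.Modules} (hS : S.ShortExact) (h₁ : Coh.IsCoh S.X₁) (h₂ : Coh.IsCoh S.X₂)
    (h₃ : Coh.IsCoh S.X₃) (i : ℕ) :
    h k S.X₂ i ≤ h k S.X₁ i + h k S.X₃ i ∧ h k S.X₃ i ≤ h k S.X₂ i + h k S.X₁ (i + 1) := by
  obtain ⟨f, g, δ, -, hB, hC, -⟩ := exists_les k S hS
  haveI := fun n => H10Coh.finite_HH_proper k X S.X₁ h₁ n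
  haveI := fun n => H10Coh.finite_HH_proper k X S.X₂ h₂ n
  haveI := fun n => H10Coh.finite_HH_proper k X S.X₃ h₃ n
  simp only [h, ← len_eq_finrank]
  exact ⟨len_mid_le (hB i), len_mid_le (hC i)⟩

theorem h_congr {M N : X.Modules} (e : M ≅ N) (i : ℕ) : h k M i = h k N i :=
  (H29RR.hhIso (k := k) e i).finrank_eq

/-- `h^i(F ⊗ L^n) = O(n^{e-1})` for `i ≥ 1`, `e` the dimension of the support. -/
theorem growth_gg {L : X.Modules} (hL : PicF.IsInvertible L) (hg : Curv2.IsGloballyGenerated L) (e : ℕ) :
    ∀ F : X.Modules, Coh.IsCoh F → topologicalKrullDim (CohB1.support F) < ((e + 1 : ℕ) : WithBot ℕ∞) →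
      ∀ i, 1 ≤ i → ∃ C : ℕ, ∀ n, h k (CohB1.tensorMod F (CohB1.tensorPow L n)) i ≤ C * bnd e n := by
  haveI : IsLocallyNoetherian X := LocallyOfFiniteType.isLocallyNoetherian (X ↘ Spec (CommRingCat.of k))
  haveI : CompactSpace X := QuasiCompact.compactSpace_of_compactSpace (X ↘ Spec (CommRingCat.of k))
  haveI : IsNoetherian X := {}
  have hP := fun n => H11Ample.isInvertible_tensorPow hL n
  induction e with
  | zero =>
    intro F hF hd i hi
    refine ⟨0, fun n => ?_⟩
    have hd' : topologicalKrullDim (CohB1.support (CohB1.tensorMod F (CohB1.tensorPow L n))) ≤ 0 := by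
      have hle := (Topology.IsEmbedding.inclusion (H25Euler.support_tensor_subset F (CohB1.tensorPow L n))
        ).isInducing.topologicalKrullDim_le
      refine hle.trans ?_
      revert hd
      cases topologicalKrullDim (CohB1.support F) with
      | bot => exact fun _ => bot_le
      | coe a =>
        intro hd
        have h1 : a < 1 := by exact_mod_cast hd
        exact_mod_cast le_of_eq (Order.lt_one_iff.1 h1)
    haveI := Groth.Agent.S1526.result k X _ (H11Ample.isCoh_tensor hF (hP n)) hd' i hi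
    rw [h, Module.finrank_zero_of_subsingleton, Nat.zero_mul]
  | succ e ih =>
    intro F hF hd i hi
    have hYc : IsClosed (CohB1.support F) := H10Coh.isClosed_support F hF.2
    haveI : QuasiSober (CohB1.support F) := hYc.isClosedEmbedding_subtypeVal.quasiSober
    obtain ⟨Z, hZf, hZ⟩ := H25Euler.exists_finite_generizing (CohB1.support F)
    obtain ⟨N, s, hN, hs⟩ := exists_avoid_of_gg hL hg (hZf.image Subtype.val).toFinset
    let φ := H25Euler.mulHom F (H11Tilde.homOfGlobal (CohB1.tensorPow L N) s)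
    have hG : Coh.IsCoh (CohB1.tensorMod F (CohB1.tensorPow L N)) := H11Ample.isCoh_tensor hF (hP N)
    have hK := H10Coh.isCoh_kernel φ hF hG.1
    have hC := H10Coh.isCoh_cokernel φ hF.1 hG
    have hI := H10Coh.isCoh_kernel (cokernel.π φ) hG hC.1
    have hS₁ : (ShortComplex.mk (kernel.ι φ) (Abelian.factorThruImage φ)
        (by rw [← cancel_mono (Abelian.image.ι φ), Category.assoc, Abelian.image.fac, kernel.condition,
          zero_comp])).ShortExact :=
      { exact := ShortComplex.exact_of_f_is_kernel _ (KernelFork.IsLimit.ofι' _ _ fun g hg =>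
          ⟨kernel.lift φ g (by
            rw [← Abelian.image.fac φ, ← Category.assoc, hg, zero_comp]), kernel.lift_ι _ _ _⟩)
        epi_g := inferInstanceAs (Epi (Abelian.factorThruImage φ)) }
    have hS₂ : (ShortComplex.mk (kernel.ι (cokernel.π φ)) (cokernel.π φ) (kernel.condition _)).ShortExact :=
      { exact := ShortComplex.exact_kernel _ }
    have hsub : ∀ M : X.Modules, Coh.IsCoh M → CohB1.support M ⊆ CohB1.support F →
        (∀ x ∈ H11Ample.gen _ s, x ∉ CohB1.support M) →
        topologicalKrullDim (CohB1.support M) < ((e + 1 : ℕ) : WithBot ℕ∞) := fun M hM hle hgen => by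
      have hlt := H25Euler.dim_lt_of_forall_ne (Y := CohB1.support F) (Subtype.val ⁻¹' CohB1.support M)
        ((H10Coh.isClosed_support M hM.2).preimage continuous_subtype_val) (fun y _ => by
          obtain ⟨η, hη, hηy⟩ := hZ y
          exact ⟨η, hηy, hgen _ (hs _ ((hZf.image _).mem_toFinset.2 ⟨η, hη, rfl⟩))⟩) hd
      let e' : CohB1.support M ≃ₜ (Subtype.val ⁻¹' CohB1.support M : Set (CohB1.support F)) :=
        { toFun := fun x => ⟨⟨x.1, hle x.2⟩, x.2⟩
          invFun := fun x => ⟨x.1.1, x.2⟩
          left_inv := fun _ => rfl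
          right_inv := fun _ => rfl }
      rwa [e'.isHomeomorph.topologicalKrullDim_eq]
    have hφ := fun x hx => H25Euler.notMem_support_kernel_cokernel φ (x := x) (H25Euler.isIso_stalk_mulHom F _ hx)
    have dK := hsub _ hK (H25Euler.support_X₁_X₃ hS₁).1 fun x hx => (hφ x hx).1
    have dQ := hsub _ hC ((H25Euler.support_X₁_X₃ hS₂).2.trans (H25Euler.support_tensor_subset _ _))
      fun x hx => (hφ x hx).2
    obtain ⟨C₁, hC₁⟩ := ih _ hK dK (i + 1) (by omega)
    obtain ⟨C₂, hC₂⟩ := ih _ hC dQ i hi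
    let g : ℕ → ℕ := fun n => h k (CohB1.tensorMod F (CohB1.tensorPow L n)) i
    have hstep : ∀ n, g (n + N) ≤ g n + (C₁ + C₂) * bnd e n := fun n => by
      obtain ⟨ψ, -⟩ := H11Ample.exists_iso_add hL N n
      have e₀ := h_congr (k := k) (H10Coh.Tw.assoc F (CohB1.tensorPow L N) (CohB1.tensorPow L n) ≪≫
        PicGrp.tensorModIso (Iso.refl F) (ψ ≪≫ eqToIso (congrArg (CohB1.tensorPow L) (add_comm N n)))) i
      have t₁ : (H10Coh.Tw.seq _ (hP n)).ShortExact := H10Coh.Tw.shortExact_seq hS₁ (hP n)
      have t₂ : (H10Coh.Tw.seq _ (hP n)).ShortExact := H10Coh.Tw.shortExact_seq hS₂ (hP n)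
      have b₁ := (h_bounds (k := k) t₁ (H11Ample.isCoh_tensor hK (hP n)) (H11Ample.isCoh_tensor hF (hP n))
        (H11Ample.isCoh_tensor hI (hP n)) i).2
      have b₂ := (h_bounds (k := k) t₂ (H11Ample.isCoh_tensor hI (hP n)) (H11Ample.isCoh_tensor hG (hP n))
        (H11Ample.isCoh_tensor hC (hP n)) i).1
      have u₁ := hC₁ n
      have u₂ := hC₂ n
      simp only [H10Coh.Tw.seq] at b₁ b₂
      simp only [g, add_mul]
      have b₁' : h k (CohB1.tensorMod (kernel (cokernel.π φ)) (CohB1.tensorPow L n)) i ≤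
          h k (CohB1.tensorMod F (CohB1.tensorPow L n)) i + h k (CohB1.tensorMod (kernel φ) (CohB1.tensorPow L n)) (i + 1) := b₁
      omega
    refine ⟨∑ j ∈ Finset.range N, g j + (C₁ + C₂), fun n => ?_⟩
    have hmain : g n ≤ ∑ j ∈ Finset.range N, g j + n * ((C₁ + C₂) * bnd e n) := by
      induction n using Nat.strong_induction_on with
      | _ n ihn =>
        by_cases hn : n < N
        · exact (Finset.single_le_sum (fun _ _ => Nat.zero_le _) (Finset.mem_range.2 hn)).trans (Nat.le_add_right _ _)
        · obtain ⟨m, rfl⟩ : ∃ m, n = m + N := ⟨n - N, by omega⟩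
          have h1 := hstep m
          have h2 := ihn m (by omega)
          have h3 : m * ((C₁ + C₂) * bnd e m) + (C₁ + C₂) * bnd e m ≤ (m + N) * ((C₁ + C₂) * bnd e (m + N)) := by
            calc m * ((C₁ + C₂) * bnd e m) + (C₁ + C₂) * bnd e m = (m + 1) * ((C₁ + C₂) * bnd e m) := by ring
              _ ≤ _ := Nat.mul_le_mul (by omega) (Nat.mul_le_mul_left _ (bnd_mono e (by omega)))
          omega
    refine hmain.trans ?_
    rw [Nat.mul_left_comm n, add_mul (∑ j ∈ Finset.range N, g j)]
    exact add_le_add (Nat.le_mul_of_pos_right _ (one_le_bnd e n)) (Nat.mul_le_mul_left _ (mul_bnd_le e n))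

end Groth.Agent.H10Coh.Growth
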