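import Groth.Agent.H10Coh.Growth.Engine
import Groth.Agent.H7Flat.CohDim.Fibre
import Groth.Agent.H7Flat.FibreDimGeneric
import Groth.Agent.H7Flat.FibreDimConstructible
import Groth.Agent.H11Ample.AmpleOn
import Groth.Agent.H11Ample.Converse
import Groth.Agent.H17.ConsPropBasic
import Groth.Agent.H27Weil.Geometry
import Mathlib.AlgebraicGeometry.ZariskisMainTheorem

/-!
# Uniform growth of the cohomology of twists on the fibres of a projective morphism
-/

set_option autoImplicit false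
set_option linter.style.haveILetI false
set_option linter.unusedSectionVars false
set_option backward.isDefEq.respectTransparency.types false

universe u

open CategoryTheory CategoryTheory.Limits AlgebraicGeometry TopologicalSpace Opposite

noncomputable section

namespace Groth.Agent.H10Coh.Growth

attribute [local instance] H12Pic.PicCurve.fibreOverField

variable {X T : Scheme.{u}}

/-- The powers of one invertible module as a family reached in steps. -/
theorem steps_tensorPow {L : X.Modules} (hL : PicF.IsInvertible L) :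
    Steps id (fun m : ℕ => CohB1.tensorPow L m) (fun _ : Fin 1 => L) where
  inv m := H11Ample.isInvertible_tensorPow hL m
  invL _ := hL
  zero a ha := by
    obtain rfl : a = 0 := ha
    exact ⟨Iso.refl _⟩
  step a ha := by
    obtain ⟨b, rfl⟩ := Nat.exists_eq_succ_of_ne_zero ha
    exact ⟨b, 0, rfl, Or.inl ⟨Iso.refl _⟩⟩

theorem bnd_succ_le (n m : ℕ) (hm : 1 ≤ m) : bnd (n + 1) m ≤ 2 ^ n * m ^ n := by
  rw [← mul_pow]
  exact Nat.pow_le_pow_left (by omega) n

/-- The uniform bound near the generic point of an integral affine base. -/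
theorem growth_affine [IsIntegral T] [IsAffine T] [IsLocallyNoetherian T] (f : X ⟶ T) [IsProper f]
    {A : X.Modules} (hA : CohB1.IsAmple A) {L : X.Modules} (hL : PicF.IsInvertible L)
    {F : X.Modules} (hF : Coh.IsCoh F) :
    ∃ (V : T.Opens) (C : ℕ), genericPoint T ∈ V ∧ ∀ t ∈ V, ∀ e : ℕ, topologicalKrullDim (f.fiber t) = e →
      ∀ m : ℕ, 1 ≤ m → ∀ i, CohIII.fiberRank f (CohB1.tensorMod F (CohB1.tensorPow L m)) i t ≤ C * m ^ e := by
  let η := genericPoint T
  haveI : IsLocallyNoetherian X := LocallyOfFiniteType.isLocallyNoetherian f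
  have hcl : IsClosed (CohB1.support (CohIII.fiberMod f F η)) := by
    haveI := isProper_fiber f η
    haveI := H29RR.isNoetherian_of_proper (k := T.residueField η) (X := f.fiber η)
    exact H10Coh.isClosed_support _ (H17.ConsProp.isCoh_pullback _ hF).2
  obtain ⟨d, hd⟩ := H7Flat.exists_nat_dim_fiber f η
  have hle : gdim f F ≤ topologicalKrullDim (f.fiber η) :=
    hcl.isClosedEmbedding_subtypeVal.isInducing.topologicalKrullDim_le
  -- an exponent controlled by the nearby fibres
  obtain ⟨e₀, hlt, W, hW, hWle⟩ : ∃ e₀ : ℕ, gdim f F < (e₀ : WithBot ℕ∞) ∧ ∃ W : T.Opens, η ∈ W ∧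
      ∀ t ∈ W, ∀ e : ℕ, topologicalKrullDim (f.fiber t) = e → ∀ m : ℕ, 1 ≤ m → bnd e₀ m ≤ 2 ^ d * m ^ e := by
    cases hdim : topologicalKrullDim (f.fiber η) with
    | bot =>
      refine ⟨0, ?_, ⊤, trivial, fun _ _ _ _ _ _ => Nat.zero_le _⟩
      rw [hdim, le_bot_iff] at hle
      rw [hle]
      exact WithBot.bot_lt_coe _
    | coe a =>
      rw [hdim] at hd hle
      obtain ⟨n, rfl⟩ := ENat.ne_top_iff_exists.1 (ne_top_of_le_ne_top (ENat.coe_ne_top d) (WithBot.coe_le_coe.1 hd))
      obtain ⟨W, hW, hWn⟩ := H7Flat.exists_nhd_le_dim_fiber f η (fun y => genericPoint_specializes y) n hdim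
      refine ⟨n + 1, hle.trans_lt (by exact_mod_cast Nat.lt_succ_self n), W, hW, fun t ht e he m hm => ?_⟩
      have hne : n ≤ e := by
        have h := hWn t ht
        rw [he] at h
        exact_mod_cast h
      have hnd : n ≤ d := by exact_mod_cast hd
      exact (bnd_succ_le n m hm).trans (Nat.mul_le_mul (Nat.pow_le_pow_right (by omega) hnd)
        (Nat.pow_le_pow_right (by omega) hne))
  obtain ⟨N, hN⟩ := exists_fiberRank_eq_zero f
  choose V C hV hC using fun i : Fin N => exists_growth f hA (steps_tensorPow hL) e₀ F hF hlt i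
  refine ⟨W ⊓ Finset.univ.inf V, (∑ i, C i) * 2 ^ d, ⟨hW, ?_⟩, fun t ht e he m hm i => ?_⟩
  · rw [SetLike.mem_coe, ← SetLike.mem_coe, Opens.coe_finset_inf]
    simpa using hV
  · by_cases hi : i < N
    · have htV : t ∈ V ⟨i, hi⟩ := (Finset.inf_le (Finset.mem_univ _) : Finset.univ.inf V ≤ V ⟨i, hi⟩) ht.2
      refine (hC ⟨i, hi⟩ t htV m).trans ?_
      rw [mul_assoc]
      exact Nat.mul_le_mul (Finset.single_le_sum (fun _ _ => Nat.zero_le _) (Finset.mem_univ (⟨i, hi⟩ : Fin N)))
        (hWle t ht.1 e he m hm)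
    · rw [hN _ (H11Ample.isCoh_tensor hF (H11Ample.isInvertible_tensorPow hL m)).1 i (not_lt.1 hi) t]
      exact Nat.zero_le _

/-- The uniform bound on the whole base. -/
theorem growth_uniform [IsNoetherian T] (f : X ⟶ T) (r : ℕ) (ι : X ⟶ CohB1.ProjSpaceOver r T) [IsClosedImmersion ι]
    (hι : ι ≫ CohB1.ProjSpaceOver.toBase r T = f) {F : X.Modules} (hF : Coh.IsCoh F) {L : X.Modules}
    (hL : PicF.IsInvertible L) :
    ∃ C : ℕ, ∀ (t : T) (e : ℕ), topologicalKrullDim (f.fiber t) = e →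
      ∀ m : ℕ, 1 ≤ m → ∀ i, CohIII.fiberRank f (CohB1.tensorMod F (CohB1.tensorPow L m)) i t ≤ C * m ^ e := by
  haveI : IsProper (CohB1.ProjSpace.toSpec r (ULift.{u} ℤ)) := H27Weil.isProper_toSpec r _
  haveI hP : IsProper (CohB1.ProjSpaceOver.toBase r T) := MorphismProperty.pullback_snd _ _ inferInstance
  haveI : IsProper f := hι ▸ inferInstanceAs (IsProper (ι ≫ CohB1.ProjSpaceOver.toBase r T))
  let Good : Closeds T → Prop := fun Z => ∃ C : ℕ, ∀ t ∈ Z, ∀ e : ℕ, topologicalKrullDim (f.fiber t) = e →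
    ∀ m : ℕ, 1 ≤ m → ∀ i, CohIII.fiberRank f (CohB1.tensorMod F (CohB1.tensorPow L m)) i t ≤ C * m ^ e
  suffices h : ∀ Z, Good Z by
    obtain ⟨C, hC⟩ := h ⊤
    exact ⟨C, fun t => hC t trivial⟩
  intro Z
  induction Z using WellFoundedLT.induction with
  | _ Z ih =>
  by_cases hne : (Z : Set T).Nonempty
  swap
  · exact ⟨0, fun t ht => absurd ⟨t, ht⟩ hne⟩
  by_cases hirr : IsPreirreducible (Z : Set T)
  swap
  · rw [isPreirreducible_iff_isClosed_union_isClosed] at hirr
    push_neg at hirr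
    obtain ⟨Z₁, Z₂, h₁, h₂, hle, hn₁, hn₂⟩ := hirr
    have hlt : ∀ (W : Set T) (hW : IsClosed W), ¬ (Z : Set T) ⊆ W → Good (Z ⊓ ⟨W, hW⟩) := fun W hW hn =>
      ih _ (lt_of_le_of_ne inf_le_left fun e => hn fun x hx => (e.ge hx).2)
    obtain ⟨C₁, hC₁⟩ := hlt Z₁ h₁ hn₁
    obtain ⟨C₂, hC₂⟩ := hlt Z₂ h₂ hn₂
    refine ⟨max C₁ C₂, fun t ht e he m hm i => ?_⟩
    rcases hle ht with h | h
    · exact (hC₁ t ⟨ht, h⟩ e he m hm i).trans (Nat.mul_le_mul_right _ (le_max_left _ _))
    · exact (hC₂ t ⟨ht, h⟩ e he m hm i).trans (Nat.mul_le_mul_right _ (le_max_right _ _))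
  obtain ⟨T₀, i₀, hint, hnoeth, hi₀, hrange⟩ := H17.ConsProp.exists_integral_closed (Z : Set T) Z.isClosed ⟨hne, hirr⟩
  obtain ⟨W, hW, hηW, -⟩ := exists_isAffineOpen_mem_and_subset (U := (⊤ : T₀.Opens)) (x := genericPoint T₀) trivial
  haveI : IsAffine W.toScheme := hW
  haveI : Nonempty W := ⟨⟨_, hηW⟩⟩
  haveI : IsIntegral W.toScheme := inferInstance
  haveI : IsLocallyNoetherian W.toScheme := inferInstance
  let q : W.toScheme ⟶ T := W.ι ≫ i₀
  haveI : IsPreimmersion q := inferInstance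
  let f' := pullback.snd f q
  have hsq : IsPullback (pullback.fst f q) f' f q := IsPullback.of_hasPullback f q
  haveI : IsProper f' := MorphismProperty.pullback_snd _ _ inferInstance
  -- an ample module on the restricted family
  let j : pullback f q ⟶ CohB1.ProjSpaceOver r W.toScheme :=
    pullback.lift (pullback.fst f q ≫ ι ≫ pullback.fst _ _) f' (specULiftZIsTerminal.hom_ext _ _)
  have hj₁ : j ≫ pullback.fst (CohB1.ProjSpace.toSpec r (ULift.{u} ℤ)) (specULiftZIsTerminal.from W.toScheme) =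
      pullback.fst f q ≫ ι ≫ pullback.fst _ _ := pullback.lift_fst _ _ _
  have hj : j ≫ CohB1.ProjSpaceOver.toBase r W.toScheme = f' := pullback.lift_snd _ _ _
  haveI : IsProper (CohB1.ProjSpaceOver.toBase r W.toScheme) := MorphismProperty.pullback_snd _ _ inferInstance
  haveI : IsProper (j ≫ CohB1.ProjSpaceOver.toBase r W.toScheme) := hj ▸ inferInstance
  haveI : IsProper j := IsProper.of_comp j (CohB1.ProjSpaceOver.toBase r W.toScheme)
  haveI : Mono j := ⟨fun {Y} a b h => by
    have hs : a ≫ f' = b ≫ f' := by rw [← hj, reassoc_of% h]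
    refine pullback.hom_ext ?_ hs
    rw [← cancel_mono ι]
    apply pullback.hom_ext
    · have h1 := h =≫ pullback.fst (CohB1.ProjSpace.toSpec r (ULift.{u} ℤ)) (specULiftZIsTerminal.from W.toScheme)
      rw [Category.assoc, Category.assoc, hj₁] at h1
      simp only [Category.assoc] at h1 ⊢
      erw [Category.assoc, Category.assoc, Category.assoc, Category.assoc]
      exact h1
    · simp only [Category.assoc]
      show (a ≫ pullback.fst f q ≫ ι) ≫ CohB1.ProjSpaceOver.toBase r T =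
        (b ≫ pullback.fst f q ≫ ι) ≫ CohB1.ProjSpaceOver.toBase r T
      simp only [Category.assoc, hι, pullback.condition, reassoc_of% hs]
      exact (reassoc_of% hs) q⟩
  haveI : IsClosedImmersion j := (IsClosedImmersion.iff_isProper_and_mono _).2 ⟨inferInstance, inferInstance⟩
  have hA := H11Ample.isAmple_pullback_of_isAffineHom j (H11Ample.isAmple_twistOver (Y := W.toScheme) r).2
  let F' := (Scheme.Modules.pullback (pullback.fst f q)).obj F
  let L' := (Scheme.Modules.pullback (pullback.fst f q)).obj L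
  have hL' : PicF.IsInvertible L' := H11Ample.isInvertible_pullback _ hL
  obtain ⟨V, C₁, hηV, hC₁⟩ := growth_affine f' hA hL' (H17.ConsProp.isCoh_pullback (pullback.fst f q) hF)
  obtain ⟨O, hO, hOV⟩ := i₀.isEmbedding.isInducing.isOpen_iff.1 (W.ι.isOpenEmbedding.isOpenMap _ V.isOpen)
  obtain ⟨C₂, hC₂⟩ := ih (Z ⊓ ⟨Oᶜ, hO.isClosed_compl⟩) (lt_of_le_of_ne inf_le_left fun e => by
    have hm : q (genericPoint W.toScheme) ∈ Z := by
      show q (genericPoint W.toScheme) ∈ (Z : Set T)
      rw [← hrange]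
      exact ⟨_, rfl⟩
    exact (e.ge hm).2 (hOV.ge ⟨_, hηV, rfl⟩))
  refine ⟨max C₁ C₂, fun t ht e he m hm i => ?_⟩
  by_cases htO : t ∈ O
  swap
  · exact (hC₂ t ⟨ht, htO⟩ e he m hm i).trans (Nat.mul_le_mul_right _ (le_max_right _ _))
  obtain ⟨t₀, rfl⟩ : t ∈ Set.range i₀ := hrange.ge ht
  obtain ⟨u, hu, rfl⟩ := hOV.le htO
  have he' : topologicalKrullDim (f'.fiber u) = e := by
    rw [H7Flat.CohDim.dim_fiber_eq hsq]; exact he
  obtain ⟨eP⟩ := H11Ample.exists_iso_pullback_tensorPow (pullback.fst f q) hL m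
  refine le_trans (le_of_eq ?_) ((hC₁ u hu e he' m hm i).trans (Nat.mul_le_mul_right _ (le_max_left _ _)))
  rw [← fiberRank_congr f' (H25Theta.pT (pullback.fst f q) F (CohB1.tensorPow L m) ≪≫
    PicGrp.tensorModIso (Iso.refl F') eP) i,
    fiberRank_pullback f (H11Ample.isCoh_tensor hF (H11Ample.isInvertible_tensorPow hL m)) hsq]
  rfl

end Groth.Agent.H10Coh.Growth
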